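import Groth.Agent.EtAlgz21.Families
import Groth.Agent.Lib.Euler.GenericCompare
import Groth.Agent.Lib.HomSh.Criterion
import Groth.Agent.EtAlgz21.Nhd

/-!
# Bilinear maps on the stalks of a bundle and the morphisms they define
-/

set_option autoImplicit false
set_option linter.all false
set_option backward.isDefEq.respectTransparency false
set_option maxHeartbeats 1000000

universe u

open CategoryTheory CategoryTheory.Limits AlgebraicGeometry TopologicalSpace Opposite

noncomputable section

namespace GrothLib.EtAlgz2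

open GrothLib.EtAlgz21 (mres ores mres_mres)
open GrothLib.FinCov (IsFrame Pairing)

variable {X : Scheme.{u}} {E N : X.Modules}

/-- The germs of a frame. -/
def stalkBasis {m : ℕ} {W : X.Opens} {e : Fin m → Γ(E, W)} (he : IsFrame E W e) {y : X} (hy : y ∈ W) :
    Module.Basis (Fin m) (X.presheaf.stalk y) (E.presheaf.stalk y) :=
  let L : (Fin m → X.presheaf.stalk y) →ₗ[X.presheaf.stalk y] E.presheaf.stalk y :=
    Fintype.linearCombination (X.presheaf.stalk y) fun i => E.presheaf.germ W y hy (e i)
  Module.Basis.ofEquivFun (LinearEquiv.ofBijective L (by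
    convert Euler.bijective_germ_comb he hy using 1
    funext c
    exact Fintype.linearCombination_apply _ _ _)).symm

theorem stalkBasis_apply {m : ℕ} {W : X.Opens} {e : Fin m → Γ(E, W)} (he : IsFrame E W e) {y : X} (hy : y ∈ W)
    (i : Fin m) : stalkBasis he hy i = E.presheaf.germ W y hy (e i) := by
  classical
  rw [stalkBasis, Module.Basis.coe_ofEquivFun]
  simp [Fintype.linearCombination_apply_single]

/-- The bilinear maps of a pairing. -/
def pLin (P : Pairing E E N) (V : X.Opens) : Γ(E, V) →ₗ[Γ(X, V)] Γ(E, V) →ₗ[Γ(X, V)] Γ(N, V) :=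
  LinearMap.mk₂ _ (P.f V) (P.add_left V) (P.smul_left V) (P.add_right V) (P.smul_right V)

theorem pLin_apply (P : Pairing E E N) (V : X.Opens) (a b : Γ(E, V)) : pLin P V a b = P.f V a b := rfl

variable (hE : FlatMod.IsFinLocFree E) (P : Pairing E E N)

/-- The bilinear map of the stalks of a pairing. -/
def stBil (y : X) :
    E.presheaf.stalk y →ₗ[X.presheaf.stalk y] E.presheaf.stalk y →ₗ[X.presheaf.stalk y] N.presheaf.stalk y :=
  let F := FinCov.exists_frame_nhd hE y
  let hy := F.choose_spec.choose_spec.choose_spec.1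
  let e := F.choose_spec.choose_spec.choose
  let B := stalkBasis F.choose_spec.choose_spec.choose_spec.2 hy
  B.constr (X.presheaf.stalk y) fun i => B.constr (X.presheaf.stalk y) fun j =>
    N.presheaf.germ F.choose y hy (P.f F.choose (e i) (e j))

theorem stBil_germ {V : X.Opens} {y : X} (hy : y ∈ V) (s t : Γ(E, V)) :
    stBil hE P y (E.presheaf.germ V y hy s) (E.presheaf.germ V y hy t) = N.presheaf.germ V y hy (P.f V s t) := by
  classical
  let F := FinCov.exists_frame_nhd hE y
  let U := F.choose
  let hyU := F.choose_spec.choose_spec.choose_spec.1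
  let e := F.choose_spec.choose_spec.choose
  let he := F.choose_spec.choose_spec.choose_spec.2
  let B := stalkBasis he hyU
  let W := U ⊓ V
  have hyW : y ∈ W := ⟨hyU, hy⟩
  let β := he.basis W inf_le_left
  have hβ : ∀ i, E.presheaf.germ W y hyW (β i) = B i := fun i => by
    rw [stalkBasis_apply, he.basis_apply]
    exact TopCat.Presheaf.germ_res_apply _ _ _ _ _
  have hrepr : ∀ a : Γ(E, W), E.presheaf.germ W y hyW a =
      ∑ i, X.presheaf.germ W y hyW (β.repr a i) • B i := fun a => by
    conv_lhs => rw [← β.sum_repr a]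
    rw [map_sum]
    exact Finset.sum_congr rfl fun i _ => by rw [Mero.germ_smul, hβ]
  have key : ∀ a b : Γ(E, W), stBil hE P y (E.presheaf.germ W y hyW a) (E.presheaf.germ W y hyW b) =
      N.presheaf.germ W y hyW (P.f W a b) := by
    intro a b
    conv_rhs => rw [← pLin_apply, ← β.sum_repr a, ← β.sum_repr b]
    simp only [map_sum, LinearMap.sum_apply, map_smul, LinearMap.smul_apply]
    rw [hrepr a, hrepr b]
    simp only [map_sum, LinearMap.sum_apply, map_smul, LinearMap.smul_apply]
    refine Finset.sum_congr rfl fun j _ => ?_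
    simp only [Finset.smul_sum, map_sum]
    refine Finset.sum_congr rfl fun i _ => ?_
    rw [Mero.germ_smul, Mero.germ_smul]
    congr 2
    show (B.constr (X.presheaf.stalk y) fun i => B.constr (X.presheaf.stalk y) fun j =>
      N.presheaf.germ U y hyU (P.f U (e i) (e j))) (B _) (B _) = _
    rw [Module.Basis.constr_basis, Module.Basis.constr_basis, pLin_apply, he.basis_apply, he.basis_apply,
      ← P.map, TopCat.Presheaf.germ_res_apply]
  have h1 : ∀ a : Γ(E, V), E.presheaf.germ V y hy a = E.presheaf.germ W y hyW (mres E inf_le_right a) :=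
    fun a => (TopCat.Presheaf.germ_res_apply E.presheaf _ _ _ _).symm
  rw [h1 s, h1 t, key]
  show N.presheaf.germ W y hyW (P.f W (E.presheaf.map _ s) (E.presheaf.map _ t)) = _
  rw [← P.map]
  exact TopCat.Presheaf.germ_res_apply _ _ _ _ _

/-- Families of bilinear maps of stalks which send sections to sections near every point. -/
def IsLocBil {Q : X.Modules} (β : ∀ y : X,
    E.presheaf.stalk y →ₗ[X.presheaf.stalk y] E.presheaf.stalk y →ₗ[X.presheaf.stalk y] Q.presheaf.stalk y) :
    Prop :=
  ∀ (V : X.Opens) (s t : Γ(E, V)) (x : X) (_ : x ∈ V), ∃ (W : X.Opens) (hW : W ≤ V) (_ : x ∈ W) (n : Γ(Q, W)),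
    ∀ (y : X) (hy : y ∈ W),
      β y (E.presheaf.germ V y (hW hy) s) (E.presheaf.germ V y (hW hy) t) = Q.presheaf.germ W y hy n

theorem isLocBil_stBil : IsLocBil (stBil hE P) := fun V s t x hx =>
  ⟨V, le_rfl, hx, P.f V s t, fun y hy => stBil_germ hE P hy s t⟩

/-- The morphism to the sheaf Hom of a family of bilinear maps. -/
def homOf {Q : X.Modules} (β : ∀ y : X,
    E.presheaf.stalk y →ₗ[X.presheaf.stalk y] E.presheaf.stalk y →ₗ[X.presheaf.stalk y] Q.presheaf.stalk y)
    (hβ : IsLocBil β) : E ⟶ RefHull.homSh E Q :=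
  ⟨PresheafOfModules.homMk
    { app := fun V => AddCommGrpCat.ofHom
        { toFun := fun s => (⟨fun y => β y.1 (E.presheaf.germ V.unop y.1 y.2 s), fun V' i m x => by
            obtain ⟨W, hW, hxW, n, hn⟩ := hβ V' (E.presheaf.map i.op s) m x.1 x.2
            refine ⟨W, hxW, homOfLE hW, n, fun y => ?_⟩
            have := hn y.1 y.2
            rw [TopCat.Presheaf.germ_res_apply] at this
            exact this⟩ : Γ(RefHull.homSh E Q, V.unop))
          map_zero' := Subtype.ext (funext fun y => by
            show β y.1 (E.presheaf.germ _ y.1 y.2 0) = 0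
            rw [map_zero, map_zero])
          map_add' := fun a b => Subtype.ext (funext fun y => by
            show β y.1 (E.presheaf.germ _ y.1 y.2 (a + b)) = β y.1 _ + β y.1 _
            rw [map_add, map_add]) }
      naturality := fun V V' i => by
        ext s
        refine Subtype.ext (funext fun y => ?_)
        exact congrArg (β y.1) (TopCat.Presheaf.germ_res_apply' E.presheaf i y.1 y.2 s) }
    fun V r s => Subtype.ext (funext fun y =>
      (congrArg (β y.1) (Mero.germ_smul E V.unop y.1 y.2 r s)).trans (map_smul (β y.1) _ _))⟩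

theorem evalStalk_homOf {Q : X.Modules} (β : ∀ y : X,
    E.presheaf.stalk y →ₗ[X.presheaf.stalk y] E.presheaf.stalk y →ₗ[X.presheaf.stalk y] Q.presheaf.stalk y)
    (hβ : IsLocBil β) (y : X) (v : E.presheaf.stalk y) :
    RefHull.evalStalk E Q y (RefHull.stalkMapₗ (homOf β hβ) y v) = β y v := by
  obtain ⟨V, hy, s, rfl⟩ := TopCat.Presheaf.exists_germ_eq E.presheaf v
  rw [RefHull.stalkMapₗ_germ, RefHull.evalStalk_germ]
  rfl

theorem unitStalk_germ {V : X.Opens} {y : X} (hy : y ∈ V) (r : Γ(X, V)) :
    HomSh.unitStalk y (X.presheaf.germ V y hy r) = (Coh.structureModule X).presheaf.germ V y hy r := by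
  show X.presheaf.germ V y hy r • (Coh.structureModule X).presheaf.germ ⊤ y trivial (1 : Γ(X, ⊤)) = _
  rw [← TopCat.Presheaf.germ_res_apply (Coh.structureModule X).presheaf (homOfLE le_top) y hy, ← Mero.germ_smul]
  refine congrArg ((Coh.structureModule X).presheaf.germ V y hy) ?_
  show r * X.presheaf.map (homOfLE le_top).op (1 : Γ(X, ⊤)) = r
  exact (congrArg (r * ·) (map_one _)).trans (mul_one r)

theorem isUnit_iff_germ {W : X.Opens} (r : Γ(X, W)) :
    IsUnit r ↔ ∀ (y : X) (hy : y ∈ W), IsUnit (X.presheaf.germ W y hy r) :=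
  ⟨fun h y hy => h.map _, fun h => X.toRingedSpace.isUnit_of_isUnit_germ W r h⟩

/-- A bilinear map to the ring is perfect exactly when its matrix has unit determinant. -/
theorem bijective_iff_det {R M : Type u} [CommRing R] [AddCommGroup M] [Module R M] {m : ℕ}
    (B : Module.Basis (Fin m) R M) (f : M →ₗ[R] M →ₗ[R] R) :
    Function.Bijective f ↔ IsUnit (Matrix.det (Matrix.of fun i j => f (B i) (B j))) := by
  classical
  have hM : LinearMap.toMatrix B B.dualBasis f = (Matrix.of fun i j => f (B i) (B j)).transpose := by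
    refine Matrix.ext fun i j => ?_
    rw [LinearMap.toMatrix_apply, Module.Basis.dualBasis_repr]
    rfl
  rw [← Matrix.det_transpose, ← hM]
  refine ⟨fun h => LinearEquiv.isUnit_det (LinearEquiv.ofBijective f h) B B.dualBasis, fun h => ?_⟩
  exact (LinearEquiv.ofIsUnitDet h).bijective

theorem bijective_stalk_iff {m : ℕ} {W : X.Opens} {e : Fin m → Γ(E, W)} (he : IsFrame E W e) {y : X} (hy : y ∈ W)
    (β : E.presheaf.stalk y →ₗ[X.presheaf.stalk y] E.presheaf.stalk y →ₗ[X.presheaf.stalk y]
      (Coh.structureModule X).presheaf.stalk y)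
    (G : Matrix (Fin m) (Fin m) Γ(X, W))
    (hG : ∀ i j, β (E.presheaf.germ W y hy (e i)) (E.presheaf.germ W y hy (e j)) =
      (Coh.structureModule X).presheaf.germ W y hy (G i j)) :
    Function.Bijective β ↔ IsUnit (X.presheaf.germ W y hy G.det) := by
  let c : (E.presheaf.stalk y →ₗ[X.presheaf.stalk y] (Coh.structureModule X).presheaf.stalk y) ≃ₗ[X.presheaf.stalk y]
      Module.Dual (X.presheaf.stalk y) (E.presheaf.stalk y) :=
    LinearEquiv.congrRight (HomSh.unitStalk y).symm
  have h := bijective_iff_det (stalkBasis he hy) (c.toLinearMap ∘ₗ β)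
  rw [RingHom.map_det]
  refine (Function.Bijective.of_comp_iff' c.bijective β).symm.trans (h.trans (iff_of_eq ?_))
  congr 2
  refine Matrix.ext fun i j => ?_
  show (HomSh.unitStalk y).symm (β (stalkBasis he hy i) (stalkBasis he hy j)) = X.presheaf.germ W y hy (G i j)
  rw [LinearEquiv.symm_apply_eq, stalkBasis_apply, stalkBasis_apply, hG, unitStalk_germ]

end GrothLib.EtAlgz2
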