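import Groth.Agent.EtAlgz2.Reflect
import Groth.Agent.EtAlgz2.Stalk
import Groth.Agent.EtAlgz21.Cover
import Groth.Agent.Lib.PunctSec7.Formal
import Groth.Agent.Lib.Ref1.Generic
import Groth.Agent.Lib.OX.RHomDual

/-!
# With fully faithful completion the algebraised forms give an étale algebra everywhere
-/

set_option autoImplicit false
set_option linter.all false
set_option backward.isDefEq.respectTransparency false
set_option maxHeartbeats 1000000

universe u

open CategoryTheory CategoryTheory.Limits AlgebraicGeometry TopologicalSpace Opposite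

noncomputable section

namespace GrothLib.EtAlgz2

open GrothLib.EtAlgz21 (mres ores mres_mres mres_self Forms GoodNhd)
open GrothLib.FinCov (IsFrame Pairing)

variable {X : Scheme.{u}} {E : X.Modules} (F : Forms E)

/-- The pairing as a pairing of modules. -/
def bPair : Pairing E E (Coh.structureModule X) where
  f V s t := F.b V s t
  add_left V a a' b := by simp
  smul_left V r a b := by simp
  add_right V a b b' := by simp
  smul_right V r a b := by simp
  map i a b := F.b_res i.le a b

variable (hp : ∀ z : X, ∃ W : X.Opens, z ∈ W ∧ F.Perfect W)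

/-- The product as a pairing. -/
def mPair : Pairing E E E where
  f V s t := F.mul hp V s t
  add_left V a a' b := LinearMap.map_add₂ (F.mulₗ hp V) a a' b
  smul_left V r a b := LinearMap.map_smul₂ (F.mulₗ hp V) r a b
  add_right V a b b' := map_add (F.mulₗ hp V a) b b'
  smul_right V r a b := map_smul (F.mulₗ hp V a) r b
  map i a b := F.mres_mul hp i.le a b

/-- The flipped product as a pairing. -/
def mPair' : Pairing E E E where
  f V s t := F.mul hp V t s
  add_left V a a' b := map_add (F.mulₗ hp V b) a a'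
  smul_left V r a b := map_smul (F.mulₗ hp V b) r a
  add_right V a b b' := LinearMap.map_add₂ (F.mulₗ hp V) b b' a
  smul_right V r a b := LinearMap.map_smul₂ (F.mulₗ hp V) r b a
  map i a b := F.mres_mul hp i.le b a

/-- Multiplication by the unit. -/
def oneHom : E ⟶ E :=
  ⟨PresheafOfModules.homMk
    { app := fun V => AddCommGrpCat.ofHom (F.mulₗ hp V.unop (F.one hp V.unop)).toAddMonoidHom
      naturality := fun V W i => by
        ext x
        exact ((F.mres_mul hp i.unop.le _ _).trans
          (congrArg (fun o => F.mul hp W.unop o _) (F.mres_one hp i.unop.le))).symm }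
    fun V r x => (F.mulₗ hp V.unop (F.one hp V.unop)).map_smul r x⟩

variable (hE : FlatMod.IsFinLocFree E)

/-- The product on stalks. -/
abbrev muS (y : X) := stBil hE (mPair F hp) y

/-- The trace form on stalks. -/
def trS (y : X) : E.presheaf.stalk y →ₗ[X.presheaf.stalk y] E.presheaf.stalk y →ₗ[X.presheaf.stalk y]
    (Coh.structureModule X).presheaf.stalk y :=
  (muS F hp hE y).compr₂ ((HomSh.unitStalk y).toLinearMap ∘ₗ
    LinearMap.trace (X.presheaf.stalk y) (E.presheaf.stalk y) ∘ₗ muS F hp hE y)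

theorem trace_muS {m : ℕ} {W : X.Opens} {e : Fin m → Γ(E, W)} (he : IsFrame E W e) {y : X} (hy : y ∈ W)
    (a : Γ(E, W)) : LinearMap.trace (X.presheaf.stalk y) (E.presheaf.stalk y)
      (muS F hp hE y (E.presheaf.germ W y hy a)) =
      X.presheaf.germ W y hy (LinearMap.trace Γ(X, W) Γ(E, W) (F.mulₗ hp W a)) := by
  classical
  let B := stalkBasis he hy
  let β := he.basis W le_rfl
  have hβ : ∀ i, β i = e i := fun i => (he.basis_apply W le_rfl i).trans (mres_self E _ _)
  rw [LinearMap.trace_eq_matrix_trace _ B, LinearMap.trace_eq_matrix_trace _ β, Matrix.trace, Matrix.trace, map_sum]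
  refine Finset.sum_congr rfl fun k _ => ?_
  rw [Matrix.diag, Matrix.diag, LinearMap.toMatrix_apply, LinearMap.toMatrix_apply]
  have h : muS F hp hE y (E.presheaf.germ W y hy a) (B k) =
      ∑ l, X.presheaf.germ W y hy (β.repr (F.mul hp W a (e k)) l) • B l := by
    rw [stalkBasis_apply, stBil_germ]
    show E.presheaf.germ W y hy (F.mul hp W a (e k)) = _
    conv_lhs => rw [← β.sum_repr (F.mul hp W a (e k))]
    rw [map_sum]
    exact Finset.sum_congr rfl fun l _ => by rw [Mero.germ_smul, hβ, stalkBasis_apply]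
  rw [h, B.repr_sum_self, hβ]
  rfl

theorem trS_germ {m : ℕ} {W : X.Opens} {e : Fin m → Γ(E, W)} (he : IsFrame E W e) {y : X} (hy : y ∈ W)
    (a b : Γ(E, W)) : trS F hp hE y (E.presheaf.germ W y hy a) (E.presheaf.germ W y hy b) =
      (Coh.structureModule X).presheaf.germ W y hy
        (LinearMap.trace Γ(X, W) Γ(E, W) (F.mulₗ hp W (F.mul hp W a b))) := by
  show HomSh.unitStalk y (LinearMap.trace _ _ (muS F hp hE y (muS F hp hE y _ _))) = _
  rw [stBil_germ, trace_muS F hp hE he, unitStalk_germ]
  rfl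

theorem isLocBil_trS : IsLocBil (trS F hp hE) := fun V s t x hx => by
  obtain ⟨W, m, e, hxW, hWV, -, he⟩ := EtAlgz21.FormalAlg.exists_affine_frame hE (V := V) hx
  exact ⟨W, hWV, hxW, _, fun y hy => by
    rw [← TopCat.Presheaf.germ_res_apply E.presheaf (homOfLE hWV) y hy s,
      ← TopCat.Presheaf.germ_res_apply E.presheaf (homOfLE hWV) y hy t, trS_germ F hp hE he]⟩

/-- Left multiplications on stalks, composed. -/
def assL (y : X) (v w : E.presheaf.stalk y) : E.presheaf.stalk y →ₗ[X.presheaf.stalk y] E.presheaf.stalk y :=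
  (muS F hp hE y v).comp (muS F hp hE y w)

/-- The pairing with values the composed left multiplications. -/
def assPair : Pairing E E (RefHull.homSh E E) where
  f V s t := ⟨fun y => assL F hp hE y.1 (E.presheaf.germ V y.1 y.2 s) (E.presheaf.germ V y.1 y.2 t),
    fun V' i c x => ⟨V', x.2, 𝟙 _, F.mul hp V' (E.presheaf.map i.op s) (F.mul hp V' (E.presheaf.map i.op t) c),
      fun y => by
        show muS F hp hE y.1 _ (muS F hp hE y.1 _ (E.presheaf.germ V' y.1 y.2 c)) = _
        rw [← TopCat.Presheaf.germ_res_apply E.presheaf i y.1 y.2 s,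
          ← TopCat.Presheaf.germ_res_apply E.presheaf i y.1 y.2 t, stBil_germ, stBil_germ]
        rfl⟩⟩
  add_left V a a' b := Subtype.ext (funext fun y => by
    show assL F hp hE y.1 _ _ = assL F hp hE y.1 _ _ + assL F hp hE y.1 _ _
    simp only [assL, map_add, LinearMap.add_comp])
  smul_left V r a b := Subtype.ext (funext fun y => by
    show assL F hp hE y.1 _ _ = _ • assL F hp hE y.1 _ _
    simp only [assL, Mero.germ_smul, map_smul, LinearMap.smul_comp])
  add_right V a b b' := Subtype.ext (funext fun y => by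
    show assL F hp hE y.1 _ _ = assL F hp hE y.1 _ _ + assL F hp hE y.1 _ _
    simp only [assL, map_add, LinearMap.comp_add])
  smul_right V r a b := Subtype.ext (funext fun y => by
    show assL F hp hE y.1 _ _ = _ • assL F hp hE y.1 _ _
    simp only [assL, Mero.germ_smul, map_smul, LinearMap.comp_smul])
  map {U V} i a b := Subtype.ext (funext fun y => by
    show assL F hp hE y.1 _ _ = assL F hp hE y.1 _ _
    exact (congrArg₂ (assL F hp hE y.1) (TopCat.Presheaf.germ_res_apply E.presheaf i y.1 y.2 a).symm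
      (TopCat.Presheaf.germ_res_apply E.presheaf i y.1 y.2 b).symm))

/-- The left multiplications as a morphism. -/
def lHom : E ⟶ RefHull.homSh E E := homOf (muS F hp hE) (isLocBil_stBil hE _)

theorem app_eq_of_tmul {M N P : X.Modules} {U : X.Opens} {φ ψ : CohB1.tensorMod M N ⟶ P}
    (h : ∀ (V : X.Opens), V ≤ U → ∀ (m : Γ(M, V)) (n : Γ(N, V)),
      φ.app V (SecTwist.tmul M N V m n) = ψ.app V (SecTwist.tmul M N V m n))
    (V : X.Opens) (hV : V ≤ U) : φ.app V = ψ.app V := by
  let η := (Scheme.Modules.restrictAdjunction U.ι).unit.app P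
  have he : φ ≫ η = ψ ≫ η := EtAlgz21.tensor_hom_ext fun W m n => by
    have key : ∀ χ : CohB1.tensorMod M N ⟶ P, (χ ≫ η).app W (SecTwist.tmul M N W m n) =
        χ.app (U.ι ''ᵁ (U.ι ⁻¹ᵁ W)) (SecTwist.tmul M N _ (M.val.map (homOfLE (U.ι.image_preimage_le W)).op m)
          (N.val.map (homOfLE (U.ι.image_preimage_le W)).op n)) := fun χ => by
      refine (congr($(χ.mapPresheaf.naturality (homOfLE (U.ι.image_preimage_le W)).op) (SecTwist.tmul M N W m n))).symm.trans ?_
      exact congrArg (χ.app _) (SecTwist.map_tmul M N (homOfLE (U.ι.image_preimage_le W)) m n)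
    rw [key, key]
    exact h _ (U.ι.image_le_opensRange _ |>.trans (by rw [Scheme.Opens.opensRange_ι])) _ _
  have hb : Function.Injective (η.app V) := by
    have hVV : U.ι ''ᵁ (U.ι ⁻¹ᵁ V) = V := EtAlgz21.image_preimage_of_le hV
    intro a b hab
    have hab' : mres P (U.ι.image_preimage_le V) a = mres P (U.ι.image_preimage_le V) b := hab
    have := congrArg (mres P hVV.ge) hab'
    rwa [mres_mres, mres_mres, mres_self, mres_self] at this
  ext x
  exact hb (congr(($he).app V x))

theorem app_bij_homOf [IsLocallyNoetherian X] (hE : FlatMod.IsFinLocFree E)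
    (β : ∀ y : X, E.presheaf.stalk y →ₗ[X.presheaf.stalk y] E.presheaf.stalk y →ₗ[X.presheaf.stalk y]
      (Coh.structureModule X).presheaf.stalk y) (hβ : IsLocBil β) {U : X.Opens}
    (hb : ∀ y ∈ U, Function.Bijective (β y)) (V : X.Opens) (hV : V ≤ U) :
    Function.Bijective ((homOf β hβ).app V) := by
  refine TopCat.Presheaf.app_bijective_of_stalkFunctor_map_bijective
    (F := ⟨E.presheaf, E.isSheaf⟩) (G := ⟨(RefHull.homSh E (Coh.structureModule X)).presheaf, Scheme.Modules.isSheaf _⟩)
    ⟨(homOf β hβ).mapPresheaf⟩ V fun y hy => ?_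
  show Function.Bijective (RefHull.stalkMapₗ (homOf β hβ) y)
  have hev := (HomSh.hasRel_of_isCoh (Euler.isCoh_of_isFinLocFree hE)).evalStalk_bijective (Coh.structureModule X) y
  refine (Function.Bijective.of_comp_iff' hev _).1 ?_
  rw [show RefHull.evalStalk E (Coh.structureModule X) y ∘ RefHull.stalkMapₗ (homOf β hβ) y = β y from
    funext fun v => evalStalk_homOf β hβ y v]
  exact hb y (hV hy)

/-- A family bijective near the closed subscheme is bijective everywhere. -/
theorem bijective_everywhere [IsLocallyNoetherian X] {𝓘 : X.IdealSheafData} (hf : FF 𝓘)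
    (hE : FlatMod.IsFinLocFree E)
    (β : ∀ y : X, E.presheaf.stalk y →ₗ[X.presheaf.stalk y] E.presheaf.stalk y →ₗ[X.presheaf.stalk y]
      (Coh.structureModule X).presheaf.stalk y) (hβ : IsLocBil β) {U : X.Opens}
    (hU : (𝓘.support : Set X) ⊆ (U : Set X)) (hb : ∀ y ∈ U, Function.Bijective (β y)) (y : X) :
    Function.Bijective (β y) := by
  haveI := isIso_of_bij hU hf hE
    (PunctSec7.isFinLocFree_homSh hE (OX.isFinLocFree_structureModule X)) (app_bij_homOf hE β hβ hb)
  have hev := (HomSh.hasRel_of_isCoh (Euler.isCoh_of_isFinLocFree hE)).evalStalk_bijective (Coh.structureModule X) y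
  rw [show (β y : E.presheaf.stalk y → _) =
      RefHull.evalStalk E (Coh.structureModule X) y ∘ RefHull.stalkMapₗ (homOf β hβ) y from
    funext fun v => (evalStalk_homOf β hβ y v).symm]
  exact hev.comp (Ref1.stalkMapₗ_bijective (asIso (homOf β hβ)) y)

theorem goodNhd_everywhere [IsLocallyNoetherian X] {𝓘 : X.IdealSheafData} (hf : FF 𝓘)
    (hE : FlatMod.IsFinLocFree E) {U : X.Opens} (hU : (𝓘.support : Set X) ⊆ (U : Set X))
    (hgood : ∀ z ∈ U, ∃ W : X.Opens, W ≤ U ∧ z ∈ W ∧ GoodNhd F W) (x : X) :
    ∃ W : X.Opens, x ∈ W ∧ GoodNhd F W := by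
  classical
  -- perfect everywhere
  have hbS : ∀ y, Function.Bijective (stBil hE (bPair F) y) := by
    refine bijective_everywhere hf hE _ (isLocBil_stBil hE _) hU fun y hy => ?_
    obtain ⟨W, -, hyW, hpW, -, m, e, he, -⟩ := hgood y hy
    refine (bijective_stalk_iff he hyW _ (Matrix.of fun i j => F.b W (e i) (e j))
      fun i j => stBil_germ hE (bPair F) hyW (e i) (e j)).2 (IsUnit.map _ ?_)
    let β := he.basis W le_rfl
    have hβ : ∀ i, β i = e i := fun i => (he.basis_apply W le_rfl i).trans (mres_self E _ _)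
    have h := (bijective_iff_det β (F.b W)).1 (hpW W le_rfl).1
    simp only [hβ] at h
    exact h
  have hperf : ∀ {W : X.Opens} {m : ℕ} {e : Fin m → Γ(E, W)}, IsFrame E W e → F.Perfect W := by
    intro W m e he
    refine F.perfect_of_frame he ((isUnit_iff_germ _).2 fun y hy => ?_)
    exact (bijective_stalk_iff he hy _ _ fun i j => stBil_germ hE (bPair F) hy (e i) (e j)).1 (hbS y)
  have hp : ∀ z : X, ∃ W : X.Opens, z ∈ W ∧ F.Perfect W := fun z => by
    obtain ⟨W, m, e, hz, he⟩ := FinCov.exists_frame_nhd hE z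
    exact ⟨W, hz, hperf he⟩
  -- on the good neighbourhoods the product is the given one
  have hgoodW : ∀ z ∈ U, ∃ (W : X.Opens) (m : ℕ) (e : Fin m → Γ(E, W)), z ∈ W ∧ IsFrame E W e ∧
      (∀ i j, F.mul hp W (e i) (e j) = F.mul hp W (e j) (e i)) ∧
      (∀ i j k, F.mul hp W (F.mul hp W (e i) (e j)) (e k) = F.mul hp W (e i) (F.mul hp W (e j) (e k))) ∧
      (∀ i, F.mul hp W (F.one hp W) (e i) = e i) ∧
      IsUnit (Matrix.det (Matrix.of fun i j =>
        LinearMap.trace Γ(X, W) Γ(E, W) (F.mulₗ hp W (F.mul hp W (e i) (e j))))) := by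
    intro z hz
    obtain ⟨W, -, hzW, hpW, -, m, e, he, μ, o, hμ, ho, hc, ha, h1, hdet⟩ := hgood z hz
    have hm : ∀ a b, F.mul hp W a b = μ a b := fun a b => by
      refine (hpW W le_rfl).1.1 (LinearMap.ext fun c => ?_)
      have := F.mul_spec hp W a b W le_rfl c
      rw [mres_self, mres_self, mres_self] at this
      exact this.trans (hμ a b c).symm
    have hone : F.one hp W = o := by
      refine (hpW W le_rfl).1.1 (LinearMap.ext fun c => ?_)
      have := F.one_spec hp W W le_rfl c
      rw [mres_self] at this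
      exact this.trans (ho c).symm
    have hml : ∀ a, F.mulₗ hp W a = μ a := fun a => LinearMap.ext (hm a)
    refine ⟨W, m, e, hzW, he, fun i j => by rw [hm, hm]; exact hc i j,
      fun i j k => by rw [hm, hm, hm, hm]; exact ha i j k, fun i => by rw [hone, hm]; exact h1 i, ?_⟩
    simp only [hm, hml]
    exact hdet
  -- two natural bilinear maps agreeing on frames near the closed subscheme
  have hloc : ∀ {N : X.Modules} (P Q : Pairing E E N), (∀ (W : X.Opens) (m : ℕ) (e : Fin m → Γ(E, W)),
      IsFrame E W e → (∀ i j, F.mul hp W (e i) (e j) = F.mul hp W (e j) (e i)) →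
      (∀ i j k, F.mul hp W (F.mul hp W (e i) (e j)) (e k) = F.mul hp W (e i) (F.mul hp W (e j) (e k))) →
      ∀ i j, P.f W (e i) (e j) = Q.f W (e i) (e j)) → ∀ (V : X.Opens), V ≤ U → ∀ a b : Γ(E, V),
      P.f V a b = Q.f V a b := by
    intro N P Q hPQ V hV a b
    choose W m e hzW he h1 h2 _ _ using fun z : V => hgoodW z.1 (hV z.2)
    refine TopCat.Sheaf.eq_of_locally_eq' ⟨N.presheaf, N.isSheaf⟩ (fun z : V => W z ⊓ V) V
      (fun z => homOfLE inf_le_right) (fun z hz => Opens.mem_iSup.2 ⟨⟨z, hz⟩, hzW ⟨z, hz⟩, hz⟩) _ _ fun z => ?_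
    show N.presheaf.map (homOfLE inf_le_right).op _ = N.presheaf.map (homOfLE inf_le_right).op _
    rw [P.map, Q.map]
    let β := (he z).basis (W z ⊓ V) inf_le_left
    have : pLin P (W z ⊓ V) = pLin Q (W z ⊓ V) := β.ext fun i => β.ext fun j => by
      rw [pLin_apply, pLin_apply, (he z).basis_apply, (he z).basis_apply, ← P.map, ← Q.map,
        hPQ _ _ _ (he z) (h1 z) (h2 z) i j]
    exact LinearMap.congr_fun (LinearMap.congr_fun this _) _
  have hEE := ModelK.isFinLocFree_tensorMod hE hE
  -- commutativity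
  have hcomm : (mPair F hp).hom = (mPair' F hp).hom := hom_eq hU hf hEE hE (app_eq_of_tmul fun V hV a b => by
    refine (FinCov.Pairing.hom_tmul _ V a b).trans (Eq.trans ?_ (FinCov.Pairing.hom_tmul _ V a b).symm)
    exact hloc (mPair F hp) (mPair' F hp) (fun W m e he h1 _ i j => h1 i j) V hV a b)
  have hc : ∀ (V : X.Opens) (a b : Γ(E, V)), F.mul hp V a b = F.mul hp V b a := fun V a b =>
    (FinCov.Pairing.hom_tmul (mPair F hp) V a b).symm.trans
      ((congr(($hcomm).app V (SecTwist.tmul E E V a b))).trans (FinCov.Pairing.hom_tmul (mPair' F hp) V a b))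
  -- associativity
  have hLapp : ∀ (V : X.Opens) (a : Γ(E, V)) (y : V), ((lHom F hp hE).app V a).1 y =
      muS F hp hE y.1 (E.presheaf.germ V y.1 y.2 a) := fun V a y => rfl
  have hass : (mPair F hp).hom ≫ lHom F hp hE = (assPair F hp hE).hom :=
    hom_eq hU hf hEE (PunctSec7.isFinLocFree_homSh hE hE) (app_eq_of_tmul fun V hV a b => by
      refine Eq.trans ?_ (FinCov.Pairing.hom_tmul _ V a b).symm
      show (lHom F hp hE).app V ((mPair F hp).hom.app V (SecTwist.tmul E E V a b)) = _
      rw [show (mPair F hp).hom.app V (SecTwist.tmul E E V a b) = F.mul hp V a b from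
        FinCov.Pairing.hom_tmul _ V a b]
      refine Subtype.ext (funext fun y => ?_)
      obtain ⟨W, m, e, hyW, he, h1, h2, -, -⟩ := hgoodW y.1 (hV y.2)
      let B := stalkBasis he hyW
      let μy := muS F hp hE y.1
      have h3 : ∀ v w, μy (μy v w) = (μy v).comp (μy w) := by
        have h4 : μy.compr₂ μy = (LinearMap.llcomp _ _ _ _).compl₁₂ μy μy := B.ext fun i => B.ext fun j => B.ext fun k => by
          show μy (μy (B i) (B j)) (B k) = μy (B i) (μy (B j) (B k))
          simp only [μy, B, stalkBasis_apply, stBil_germ]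
          exact congrArg (E.presheaf.germ W y.1 hyW) (h2 i j k)
        exact fun v w => LinearMap.congr_fun (LinearMap.congr_fun h4 v) w
      show muS F hp hE y.1 (E.presheaf.germ V y.1 y.2 (F.mul hp V a b)) = assL F hp hE y.1 _ _
      exact (congrArg (muS F hp hE y.1) (stBil_germ hE (mPair F hp) y.2 a b).symm).trans (h3 _ _))
  -- unit
  have hunit : oneHom F hp = 𝟙 E := hom_eq hU hf hE hE fun V hV => by
    ext a
    choose W m e hzW he _ _ h1 _ using fun z : V => hgoodW z.1 (hV z.2)
    show F.mul hp V (F.one hp V) a = a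
    refine TopCat.Sheaf.eq_of_locally_eq' ⟨E.presheaf, E.isSheaf⟩ (fun z : V => W z ⊓ V) V
      (fun z => homOfLE inf_le_right) (fun z hz => Opens.mem_iSup.2 ⟨⟨z, hz⟩, hzW ⟨z, hz⟩, hz⟩) _ _ fun z => ?_
    show mres E inf_le_right _ = mres E inf_le_right _
    rw [F.mres_mul, F.mres_one]
    let β := (he z).basis (W z ⊓ V) inf_le_left
    have : F.mulₗ hp (W z ⊓ V) (F.one hp _) = LinearMap.id := β.ext fun i => by
      rw [(he z).basis_apply, LinearMap.id_apply]
      show F.mul hp _ (F.one hp _) (mres E inf_le_left (e z i)) = _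
      rw [← F.mres_one hp (inf_le_left : W z ⊓ V ≤ W z), ← F.mres_mul, h1 z i]
    exact LinearMap.congr_fun this _
  -- the trace form
  have htr : ∀ y, Function.Bijective (trS F hp hE y) := by
    refine bijective_everywhere hf hE _ (isLocBil_trS F hp hE) hU fun y hy => ?_
    obtain ⟨W, m, e, hyW, he, -, -, -, hdet⟩ := hgoodW y hy
    exact (bijective_stalk_iff he hyW _ _ fun i j => trS_germ F hp hE he hyW (e i) (e j)).2 (hdet.map _)
  -- conclusion
  obtain ⟨W, m, e, hxW, -, hW, he⟩ := EtAlgz21.FormalAlg.exists_affine_frame hE (V := ⊤) (z := x) trivial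
  have hWp := hperf he
  refine ⟨W, hxW, hWp, hW, m, e, he, F.mulₗ hp W, F.one hp W, fun a b c => ?_, fun c => ?_,
    fun i j => hc W _ _, fun i j k => ?_, fun i => ?_, ?_⟩
  · have := F.mul_spec hp W a b W le_rfl c
    rwa [mres_self, mres_self, mres_self] at this
  · have := F.one_spec hp W W le_rfl c
    rwa [mres_self] at this
  · refine TopCat.Presheaf.section_ext (C := Ab.{u}) (X := X.carrier) ⟨E.presheaf, E.isSheaf⟩ W _ _ fun y hy => ?_
    have h5 := congr(($hass).app W (SecTwist.tmul E E W (e i) (e j)))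
    rw [show (assPair F hp hE).hom.app W (SecTwist.tmul E E W (e i) (e j)) = _ from
      FinCov.Pairing.hom_tmul (assPair F hp hE) W (e i) (e j)] at h5
    have h5' : (lHom F hp hE).app W (F.mul hp W (e i) (e j)) = (assPair F hp hE).f W (e i) (e j) := by
      exact (congrArg ((lHom F hp hE).app W) (FinCov.Pairing.hom_tmul (mPair F hp) W (e i) (e j)).symm).trans h5
    have h6 := congrArg (fun g : Γ(RefHull.homSh E E, W) => g.1 ⟨y, hy⟩ (E.presheaf.germ W y hy (e k))) h5'
    simp only at h6
    rw [hLapp] at h6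
    change muS F hp hE y _ _ = muS F hp hE y _ (muS F hp hE y _ _) at h6
    simp only [stBil_germ] at h6
    exact h6
  · exact congr(($hunit).app W (e i))
  · exact (isUnit_iff_germ _).2 fun y hy =>
      (bijective_stalk_iff he hy _ _ fun i j => trS_germ F hp hE he hy (e i) (e j)).1 (htr y)

end GrothLib.EtAlgz2
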