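import Groth.Agent.EtAlgz2.Glob
import Groth.Agent.EtAlgz21.Extend
import Groth.Agent.Lib.ResPropLim20.Main

/-!
# Covers of the closed subscheme algebraise when completion is an equivalence on bundles
-/

set_option autoImplicit false
set_option linter.all false
set_option backward.isDefEq.respectTransparency false
set_option maxHeartbeats 1000000

universe u

open CategoryTheory CategoryTheory.Limits AlgebraicGeometry TopologicalSpace Opposite

noncomputable section

namespace GrothLib.EtAlgz2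

open GrothLib.EtAlgz21

variable {X : Scheme.{u}} {𝓘 : X.IdealSheafData} {R : FEt.Cat 𝓘.subscheme} {E : X.Modules}

theorem app_trans {C D : Type*} [Category C] [Category D] {F G H : C ⥤ D} (α : F ≅ G) (β : G ≅ H) (M : C) :
    (α ≪≫ β).app M = α.app M ≪≫ β.app M := Iso.ext rfl

theorem completion_e_eq (M : X.Modules) (n : ℕ) :
    ((FSch.completionMod 𝓘 M).e n).hom = ((FSch.complMod 𝓘 M).e n).hom := by
  refine congrArg Iso.hom ?_
  rw [FSch.complMod_e]
  delta FSch.complTransIso FSch.completionMod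
  delta FSch.completionAlong
  dsimp only
  rw [app_trans]

theorem modSys_mk_eq {𝔛 : FSch.Sys.{u}} (F : ∀ n, (𝔛.X n).Modules)
    (e e' : ∀ n, (Scheme.Modules.pullback (𝔛.ι n)).obj (F (n + 1)) ≅ F n) (h : ∀ n, e n = e' n) :
    FSch.ModSys.mk F e = FSch.ModSys.mk F e' := by
  obtain rfl : e = e' := funext h
  rfl

theorem nonempty_completion_iso (M : X.Modules) :
    Nonempty (FSch.completionMod 𝓘 M ≅ FSch.complMod 𝓘 M) := by
  refine ⟨eqToIso ?_⟩
  delta FSch.completionMod FSch.complMod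
  refine modSys_mk_eq _ _ _ fun n => ?_
  delta FSch.complTransIso FSch.completionAlong
  dsimp only
  rw [app_trans]

/-- The unit of restriction to the whole space. -/
abbrev ηT (E : X.Modules) : E ⟶ pE (E.restrict (⊤ : X.Opens).ι) :=
  (Scheme.Modules.restrictAdjunction (⊤ : X.Opens).ι).unit.app E

theorem isIso_ηT (E : X.Modules) : IsIso (ηT E) := by
  refine GrothLib.ZClosure.isIso_of_basis _ fun x V hxV => ⟨V, hxV, le_rfl, ?_⟩
  have hV : (⊤ : X.Opens).ι ''ᵁ ((⊤ : X.Opens).ι ⁻¹ᵁ V) = V := image_preimage_of_le le_top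
  refine Function.bijective_iff_has_inverse.2 ⟨mres E hV.ge, fun a => ?_, fun a => ?_⟩
  · show mres E hV.ge (mres E ((⊤ : X.Opens).ι.image_preimage_le V) a) = a
    rw [mres_mres, mres_self]
  · show mres E ((⊤ : X.Opens).ι.image_preimage_le V) (mres E hV.ge a) = a
    rw [mres_mres, mres_self]

theorem exists_theta (θ : FSch.complMod 𝓘 E ≅ sys 𝓘 R) :
    Nonempty (FSch.completionMod 𝓘 (pE (E.restrict (⊤ : X.Opens).ι)) ≅ sys 𝓘 R) := by
  haveI := isIso_ηT E
  let c : FSch.complMod 𝓘 (pE (E.restrict (⊤ : X.Opens).ι)) ≅ FSch.complMod 𝓘 E :=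
    { hom := FSch.complModMap 𝓘 (inv (ηT E))
      inv := FSch.complModMap 𝓘 (ηT E)
      hom_inv_id := FSch.ModSys.Hom.ext (funext fun n => by
        show (Scheme.Modules.pullback _).map (inv (ηT E)) ≫ (Scheme.Modules.pullback _).map (ηT E) = 𝟙 _
        exact ((Scheme.Modules.pullback _).map_comp _ _).symm.trans
          ((congrArg (Scheme.Modules.pullback _).map (IsIso.inv_hom_id _)).trans ((Scheme.Modules.pullback _).map_id _)))
      inv_hom_id := FSch.ModSys.Hom.ext (funext fun n => by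
        show (Scheme.Modules.pullback _).map (ηT E) ≫ (Scheme.Modules.pullback _).map (inv (ηT E)) = 𝟙 _
        exact ((Scheme.Modules.pullback _).map_comp _ _).symm.trans
          ((congrArg (Scheme.Modules.pullback _).map (IsIso.hom_inv_id _)).trans ((Scheme.Modules.pullback _).map_id _))) }
  obtain ⟨e⟩ := nonempty_completion_iso (𝓘 := 𝓘) (pE (E.restrict (⊤ : X.Opens).ι))
  exact ⟨e ≪≫ c ≪≫ θ⟩

variable (θ : FSch.completionMod 𝓘 (pE (E.restrict (⊤ : X.Opens).ι)) ≅ sys 𝓘 R)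

/-- The formal algebra on the scheme. -/
def formalAlgX [IsLocallyNoetherian X] (hE : FlatMod.IsFinLocFree E)
    (hE' : FlatMod.IsFinLocFree (E.restrict (⊤ : X.Opens).ι)) : FormalAlg 𝓘 E where
  R n := (lev 𝓘 R n).left
  p n := pv 𝓘 R n
  finite _ := inferInstance
  etale _ := inferInstance
  t n := tl 𝓘 R n
  w n := (sq 𝓘 R n).w
  eps n V := (epsX θ n V).comp ((ηT E).app V).hom
  eps_smul n V r x := by
    show epsX θ n V ((ηT E).app V (r • x)) = _
    rw [Scheme.Modules.Hom.app_smul, epsX_smul]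
    rfl
  eps_res n V W h x := by
    show epsX θ n V ((ηT E).app V (E.presheaf.map (homOfLE h).op x)) = _
    rw [show (ηT E).app V (E.presheaf.map (homOfLE h).op x) = (pE _).presheaf.map (homOfLE h).op ((ηT E).app W x) from
      congr($((ηT E).mapPresheaf.naturality (homOfLE h).op) x), epsX_res]
    rfl
  eps_compat n V x e := epsX_compat θ n V ((ηT E).app V x)
  basis n W hW m e he :=
    basisX θ hE' n hW le_top (e := fun i => mres E ((⊤ : X.Opens).ι.image_preimage_le W) (e i))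
      (isFrame_restrict (isFrame_res he _))

/-- Essential surjectivity of restriction. -/
theorem exists_cover_global [IsLocallyNoetherian X] (hf : FF 𝓘) (hE : FlatMod.IsFinLocFree E)
    (θ₀ : FSch.complMod 𝓘 E ≅ sys 𝓘 R) :
    ∃ R' : FEt.Cat X, Nonempty ((FEt.restrict 𝓘.subschemeι).obj R' ≅ R) := by
  obtain ⟨θ⟩ := exists_theta θ₀
  have hE' : FlatMod.IsFinLocFree (E.restrict (⊤ : X.Opens).ι) :=
    ResPropLim20.isFinLocFree_of_iso ((Scheme.Modules.restrictFunctorIsoPullback (⊤ : X.Opens).ι).app E).symm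
      (OX.isFinLocFree_pullback _ hE)
  let D := formalAlgX θ hE hE'
  obtain ⟨F, hF⟩ := D.exists_forms hE fun M hM => LefEt7.homToFormalBijective_of_completion 𝓘 M
    (hf M _ hM (OX.isFinLocFree_structureModule X))
  let U : X.Opens := sSup {W | GoodNhd F W}
  have hUI : (𝓘.support : Set X) ⊆ (U : Set X) := fun x hx => by
    obtain ⟨W, hxW, hW⟩ := D.exists_goodNhd hE hF hx
    exact Opens.mem_sSup.2 ⟨W, hW, hxW⟩
  have hgood : ∀ z ∈ U, ∃ W : X.Opens, W ≤ U ∧ z ∈ W ∧ GoodNhd F W := by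
    intro z hz
    obtain ⟨W, hW, hzW⟩ := Opens.mem_sSup.1 hz
    exact ⟨W, le_sSup hW, hzW, hW⟩
  have hU : ∀ z ∈ (⊤ : X.Opens), ∃ W : X.Opens, W ≤ ⊤ ∧ z ∈ W ∧ GoodNhd F W := fun z _ => by
    obtain ⟨W, hzW, hW⟩ := goodNhd_everywhere F hf hE hUI hgood z
    exact ⟨W, le_top, hzW, hW⟩
  haveI : E.IsQuasicoherent := (GrothLib.Euler.isCoh_of_isFinLocFree hE).1
  haveI : (E.restrict (⊤ : X.Opens).ι).IsQuasicoherent := inferInstance
  haveI : IsIso (⊤ : X.Opens).ι := inferInstanceAs (IsIso X.topIso.hom)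
  have hπ := prop_π hU
  haveI : IsFinite (algU hU).π := hπ.1
  haveI : Etale (algU hU).π := hπ.2
  let i : Yn 𝓘 0 ⟶ (⊤ : X.Opens).toScheme := yι 𝓘 0 ≫ inv (⊤ : X.Opens).ι
  have hi : i ≫ (⊤ : X.Opens).ι = yι 𝓘 0 := by simp [i]
  obtain ⟨φ, hφ⟩ := exists_isPullback hU D hE hF i hi
  let g : (⊤ : X.Opens).toScheme ≅ X := asIso (⊤ : X.Opens).ι
  let b : Yn 𝓘 0 ≅ 𝓘.subscheme := (asIso (j0 𝓘)).symm
  let a : (lev 𝓘 R 0).left ≅ R.left :=
    @asIso _ _ _ _ (pullback.fst R.hom (inv (j0 𝓘))) (pullback_fst_iso_of_right_iso R.hom (inv (j0 𝓘)))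
  have hsq : IsPullback (a.inv ≫ φ) R.hom ((algU hU).π ≫ g.hom) 𝓘.subschemeι := by
    refine hφ.of_iso a (Iso.refl _) b g ?_ ?_ ?_ ?_
    · exact (Category.comp_id φ).trans (a.hom_inv_id_assoc φ).symm
    · show pv 𝓘 R 0 ≫ inv (j0 𝓘) = pullback.fst R.hom (inv (j0 𝓘)) ≫ R.hom
      exact (pullback.condition).symm
    · simp
    · show i ≫ (⊤ : X.Opens).ι = inv (j0 𝓘) ≫ 𝓘.subschemeι
      rw [hi, IsIso.eq_inv_comp, j0_yι]
  refine ⟨MorphismProperty.Over.mk ⊤ ((algU hU).π ≫ g.hom) ⟨inferInstance, inferInstance⟩,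
    ⟨MorphismProperty.Over.isoMk hsq.isoPullback.symm ?_⟩⟩
  exact hsq.isoPullback_inv_snd

end GrothLib.EtAlgz2
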