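import Groth.Agent.Lib.LefEt7.Completion
import Groth.Agent.EtAlgz21.Levels
import Groth.Agent.Lib.ZClos.Basic

/-!
# Fully faithful completion detects equalities and isomorphisms near the closed subscheme
-/

set_option autoImplicit false
set_option linter.all false
set_option backward.isDefEq.respectTransparency false

universe u

open CategoryTheory CategoryTheory.Limits AlgebraicGeometry TopologicalSpace Opposite

noncomputable section

namespace GrothLib.EtAlgz2

open GrothLib.EtAlgz21 (yι Yn)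

variable {X : Scheme.{u}} (𝓘 : X.IdealSheafData)

/-- Completion is fully faithful on bundles. -/
abbrev FF : Prop := ∀ F G : X.Modules, FlatMod.IsFinLocFree F → FlatMod.IsFinLocFree G →
      Function.Bijective (fun φ : F ⟶ G => FSch.complModMap 𝓘 φ)

variable {𝓘} {U : X.Opens} (hU : (𝓘.support : Set X) ⊆ (U : Set X))

include hU in
theorem exists_lift (n : ℕ) : ∃ j : Yn 𝓘 n ⟶ U.toScheme, j ≫ U.ι = yι 𝓘 n :=
  ⟨IsOpenImmersion.lift U.ι (yι 𝓘 n) (by rw [Scheme.Opens.range_ι, EtAlgz21.range_yι]; exact hU),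
    IsOpenImmersion.lift_fac _ _ _⟩

theorem restrict_map_eq {M N : X.Modules} {φ ψ : M ⟶ N} (h : ∀ V : X.Opens, V ≤ U → φ.app V = ψ.app V) :
    (Scheme.Modules.restrictFunctor U.ι).map φ = (Scheme.Modules.restrictFunctor U.ι).map ψ :=
  Scheme.Modules.hom_ext _ _ fun V => h (U.ι ''ᵁ V) (U.ι.image_le_opensRange V |>.trans (by rw [Scheme.Opens.opensRange_ι]))

theorem isIso_restrict_map {M N : X.Modules} {φ : M ⟶ N}
    (h : ∀ V : X.Opens, V ≤ U → Function.Bijective (φ.app V)) :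
    IsIso ((Scheme.Modules.restrictFunctor U.ι).map φ) :=
  GrothLib.ZClosure.isIso_of_basis _ fun x W hxW => ⟨W, hxW, le_rfl,
    h (U.ι ''ᵁ W) (U.ι.image_le_opensRange W |>.trans (by rw [Scheme.Opens.opensRange_ι]))⟩

include hU in
theorem pullback_map_eq {M N : X.Modules} {φ ψ : M ⟶ N} (h : ∀ V : X.Opens, V ≤ U → φ.app V = ψ.app V) (n : ℕ) :
    (Scheme.Modules.pullback (yι 𝓘 n)).map φ = (Scheme.Modules.pullback (yι 𝓘 n)).map ψ := by
  obtain ⟨j, hj⟩ := exists_lift hU n
  let η : Scheme.Modules.restrictFunctor U.ι ⋙ Scheme.Modules.pullback j ≅ Scheme.Modules.pullback (yι 𝓘 n) :=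
    Functor.isoWhiskerRight (Scheme.Modules.restrictFunctorIsoPullback U.ι) _ ≪≫
      Scheme.Modules.pullbackComp j U.ι ≪≫ Scheme.Modules.pullbackCongr hj
  rw [← cancel_epi (η.hom.app M)]
  refine (η.hom.naturality φ).symm.trans (Eq.trans ?_ (η.hom.naturality ψ))
  show (Scheme.Modules.pullback j).map _ ≫ _ = _
  rw [restrict_map_eq h]
  rfl

include hU in
theorem isIso_pullback_map {M N : X.Modules} {φ : M ⟶ N}
    (h : ∀ V : X.Opens, V ≤ U → Function.Bijective (φ.app V)) (n : ℕ) :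
    IsIso ((Scheme.Modules.pullback (yι 𝓘 n)).map φ) := by
  obtain ⟨j, hj⟩ := exists_lift hU n
  haveI := isIso_restrict_map h
  let η : Scheme.Modules.restrictFunctor U.ι ⋙ Scheme.Modules.pullback j ≅ Scheme.Modules.pullback (yι 𝓘 n) :=
    Functor.isoWhiskerRight (Scheme.Modules.restrictFunctorIsoPullback U.ι) _ ≪≫
      Scheme.Modules.pullbackComp j U.ι ≪≫ Scheme.Modules.pullbackCongr hj
  exact (NatIso.isIso_map_iff η φ).1 (inferInstanceAs (IsIso ((Scheme.Modules.pullback j).map _)))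

include hU in
/-- Morphisms of bundles agreeing near the closed subscheme agree. -/
theorem hom_eq (hf : FF 𝓘) {M N : X.Modules} (hM : FlatMod.IsFinLocFree M) (hN : FlatMod.IsFinLocFree N)
    {φ ψ : M ⟶ N} (h : ∀ V : X.Opens, V ≤ U → φ.app V = ψ.app V) : φ = ψ :=
  (hf M N hM hN).1 (FSch.ModSys.Hom.ext (funext fun n => pullback_map_eq hU h n))

include hU in
/-- A morphism of bundles bijective near the closed subscheme is an isomorphism. -/
theorem isIso_of_bij (hf : FF 𝓘) {M N : X.Modules} (hM : FlatMod.IsFinLocFree M) (hN : FlatMod.IsFinLocFree N)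
    {φ : M ⟶ N} (h : ∀ V : X.Opens, V ≤ U → Function.Bijective (φ.app V)) : IsIso φ := by
  have hi : ∀ n, IsIso ((FSch.complModMap 𝓘 φ).app n) := fun n => isIso_pullback_map hU h n
  let g : FSch.complMod 𝓘 N ⟶ FSch.complMod 𝓘 M := ⟨fun n => inv ((FSch.complModMap 𝓘 φ).app n), fun n => by
    rw [IsIso.eq_comp_inv, Category.assoc, Functor.map_inv, IsIso.inv_comp_eq]
    exact ((FSch.complModMap 𝓘 φ).comm n).symm⟩
  obtain ⟨ψ, hψ⟩ := (hf N M hN hM).2 g
  have hψn : ∀ n, (FSch.complModMap 𝓘 ψ).app n = inv ((FSch.complModMap 𝓘 φ).app n) := fun n =>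
    congrArg (fun k => FSch.ModSys.Hom.app k n) hψ
  have e1 : FSch.complModMap 𝓘 (φ ≫ ψ) = FSch.complModMap 𝓘 (𝟙 M) := by
    refine FSch.ModSys.Hom.ext (funext fun n => ?_)
    show (Scheme.Modules.pullback (FSch.completionToX X 𝓘 n)).map (φ ≫ ψ) = (Scheme.Modules.pullback _).map (𝟙 M)
    refine ((Scheme.Modules.pullback _).map_comp _ _).trans (Eq.trans ?_ ((Scheme.Modules.pullback _).map_id _).symm)
    exact (congrArg (fun k => (FSch.complModMap 𝓘 φ).app n ≫ k) (hψn n)).trans (IsIso.hom_inv_id _)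
  have e2 : FSch.complModMap 𝓘 (ψ ≫ φ) = FSch.complModMap 𝓘 (𝟙 N) := by
    refine FSch.ModSys.Hom.ext (funext fun n => ?_)
    show (Scheme.Modules.pullback (FSch.completionToX X 𝓘 n)).map (ψ ≫ φ) = (Scheme.Modules.pullback _).map (𝟙 N)
    refine ((Scheme.Modules.pullback _).map_comp _ _).trans (Eq.trans ?_ ((Scheme.Modules.pullback _).map_id _).symm)
    exact (congrArg (fun k => k ≫ (FSch.complModMap 𝓘 φ).app n) (hψn n)).trans (IsIso.inv_hom_id _)
  exact ⟨ψ, (hf M M hM hM).1 e1, (hf N N hN hN).1 e2⟩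

end GrothLib.EtAlgz2
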